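import Groth.Agent.PlaneGon.Plane
import Groth.Agent.EulerMult.Basic
import Groth.Agent.FEtRank.PushRank
import Groth.Agent.ResDesc.ProjFormula
import Groth.Agent.CurveRR.Multi2
import Groth.Agent.Nakai.SemiAmple
import Mathlib.AlgebraicGeometry.Morphisms.FlatRank

/-!
No smooth plane curve of degree at least four is a double cover of a curve of genus zero.
-/

set_option autoImplicit false
set_option linter.style.haveILetI false
set_option linter.unusedSectionVars false
set_option backward.isDefEq.respectTransparency false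
set_option backward.isDefEq.respectTransparency.types false
set_option maxHeartbeats 1000000

universe u

open CategoryTheory CategoryTheory.Limits AlgebraicGeometry TopologicalSpace
open Groth.Agent.CohFinite Groth.Agent.CurveRR

noncomputable section

namespace Groth.Agent.PlaneGon

variable {k : Type u} [Field k]

/-- The degree of an inverse image along a finite flat morphism. -/
theorem deg_pullback_flat {X P : Scheme.{u}} [X.Over (Spec (CommRingCat.of k))] [P.Over (Spec (CommRingCat.of k))]
    [IsProper (P ↘ Spec (CommRingCat.of k))] (f : X ⟶ P)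
    (hf : f ≫ (P ↘ Spec (CommRingCat.of k)) = X ↘ Spec (CommRingCat.of k)) [IsFinite f] [Flat f] {n : ℕ}
    (hn : ∀ y, f.finrank y = n) (hdim : topologicalKrullDim P ≤ 1) {L : P.Modules} (hL : PicF.IsInvertible L) :
    Curv2.deg k X ((Scheme.Modules.pullback f).obj L) 1 = n * Curv2.deg k P L 1 := by
  haveI := isNoetherian_of_proper k P
  haveI : IsProper (X ↘ Spec (CommRingCat.of k)) := by rw [← hf]; infer_instance
  haveI := isNoetherian_of_proper k X
  haveI : LocallyOfFinitePresentation f :=
    LocallyOfFinitePresentation.iff_locallyOfFiniteType.2 inferInstance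
  have hA := FEtRank.isFinLocFreeOfRank_of_finrank_eq f hn
  have hLq := TMul.isQCoh_of_isInvertible hL
  haveI := ResDesc.isIso_phi f L (fun y => let ⟨U, hy, e⟩ := hA y; ⟨U, n, hy, e⟩) hLq
  have e1 : Curv2.euler k X ((Scheme.Modules.pullback f).obj L) =
      Curv2.euler k P (CohB1.tensorMod (ResDesc.algMod f) L) :=
    ((euler_eq_of_iso (asIso (ResDesc.phi f L))).trans
      (EulerMult.euler_push_affine f hf _ (QC.isQCoh_pullback f hLq))).symm
  have e2 : Curv2.euler k X (Coh.structureModule X) = Curv2.euler k P (ResDesc.algMod f) :=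
    (EulerMult.euler_push_affine f hf _ RefStalk.isCoh_structureModule.1).symm
  have h := Multi.deg_tensor (k := k) hdim n 1 (ResDesc.algMod f) L hA (isFinLocFreeOfRank_one hL)
  rw [Curv2.deg, e1, e2]
  simp only [Curv2.deg] at h ⊢
  push_cast at h ⊢
  linarith

variable {d : ℕ} (G : LefPen.Form 2 k d) (hG : G ≠ 0)
  [inst : ((LefPen.hypIdeal G).subscheme).Over (Spec (CommRingCat.of k))]
  (hinst : (LefPen.hypIdeal G).subscheme ↘ (Spec (CommRingCat.of k)) =
    (LefPen.hypIdeal G).subschemeι ≫ CohB1.ProjSpace.toSpec 2 k)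
  [Smooth ((LefPen.hypIdeal G).subscheme ↘ (Spec (CommRingCat.of k)))]

include hG hinst in
theorem false_of_double_cover (hd : 4 ≤ d) {P : Scheme.{u}} [P.Over (Spec (CommRingCat.of k))]
    [IsProper (P ↘ Spec (CommRingCat.of k))] [Smooth (P ↘ Spec (CommRingCat.of k))]
    (hP : topologicalKrullDim P = 1)
    (hP0 : (CurveRR.h k (Coh.structureModule P) 0 : ℤ) - CurveRR.h k (Coh.structureModule P) 1 = 1)
    (f : (LefPen.hypIdeal G).subscheme ⟶ P)
    (hf : f ≫ (P ↘ Spec (CommRingCat.of k)) = (LefPen.hypIdeal G).subscheme ↘ Spec (CommRingCat.of k))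
    [IsFinite f] [Flat f] (hn : ∀ y, f.finrank y = 2) : False := by
  let C := (LefPen.hypIdeal G).subscheme
  haveI := isProper_plane G hinst
  haveI := isIntegral_plane G hG hinst (by omega)
  have h00 := (Groth.Agent.S7840.result k d (by omega) G hG hinst).1
  have hdim := dim_plane G hG hinst (by omega)
  haveI := isNoetherian_of_proper k P
  haveI : LocallyOfFinitePresentation f :=
    LocallyOfFinitePresentation.iff_locallyOfFiniteType.2 inferInstance
  haveI hsurj : Surjective f := (Scheme.Hom.one_le_finrank_iff_surjective f).1 fun y => by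
    show 1 ≤ f.finrank y
    rw [hn y]; norm_num
  haveI : IsReduced P := Groth.Agent.SmoothRed.isReduced_of_smooth_scheme (P ↘ Spec (CommRingCat.of k))
  haveI := IsSchemeTheoreticallyDominant.of_isDominant f
  -- genus zero
  have hP00 : CurveRR.h k (Coh.structureModule P) 0 = 1 := by
    have h1 := Nakai.h0_le_pullback (k := k) f hf (TMul.isInvertible_structureModule (X := P))
    rw [h_eq_of_iso (PicLoc.pullbackStructureIso f) 0,
      show CurveRR.h k (Coh.structureModule (LefPen.hypIdeal G).subscheme) 0 = 1 from h00] at h1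
    omega
  have hP01 : CurveRR.h k (Coh.structureModule P) 1 = 0 := by omega
  have hCb := CurveOmega.smoothProper_bar k C hdim h00
  have hPb := CurveOmega.smoothProper_bar k P hP hP00
  haveI := hCb.1
  haveI := hPb.1
  haveI := hPb.2.1
  haveI := hPb.2.2.1
  -- base change
  let g : CurveOmega.bar k C ⟶ CurveOmega.bar k P := pullback.lift (pullback.fst _ _ ≫ f) (pullback.snd _ _)
    (by rw [Category.assoc, hf, pullback.condition])
  have hg2 : g ≫ (CurveOmega.bar k P ↘ Spec (CommRingCat.of (AlgebraicClosure k))) =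
      CurveOmega.bar k C ↘ Spec (CommRingCat.of (AlgebraicClosure k)) := pullback.lift_snd _ _ _
  have hsq : IsPullback (CurveOmega.barFst k C) g f (CurveOmega.barFst k P) := by
    refine IsPullback.of_bot ?_ (pullback.lift_fst _ _ _).symm (CurveOmega.isPullback_bar k P)
    rw [hg2, hf]
    exact CurveOmega.isPullback_bar k C
  haveI : IsFinite g := MorphismProperty.of_isPullback hsq ‹_›
  haveI : Flat g := MorphismProperty.of_isPullback hsq ‹_›
  have hng : ∀ y, g.finrank y = 2 := fun y => (Scheme.Hom.finrank_of_isPullback _ _ _ _ hsq y).trans (hn _)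
  haveI : Surjective g := MorphismProperty.of_isPullback (P := @Surjective) hsq hsurj
  haveI := IsSchemeTheoreticallyDominant.of_isDominant g
  -- a point
  haveI := isNoetherian_of_proper (AlgebraicClosure k) (CurveOmega.bar k P)
  obtain ⟨y, -, hy⟩ := IsClosed.exists_closed_singleton (isClosed_univ (X := ↥(CurveOmega.bar k P))) Set.univ_nonempty
  have hI : PicF.IsInvertible (ClSub.idealMod (Scheme.IdealSheafData.vanishingIdeal ⟨{y}, hy⟩)) :=
    isInvertible_pointIdeal hPb.2.2.2.le hy (genericPoint_ne_of_closed (k := AlgebraicClosure k) hPb.2.2.2 hy)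
      (SmLocalST.isRegularLocalRing_stalk_of_smooth_field
        (CurveOmega.bar k P ↘ Spec (CommRingCat.of (AlgebraicClosure k))) _)
  obtain ⟨L, hL, ⟨θ⟩⟩ := W7Hull.exists_tensor_inverse hI
  have hI1 := euler_pointIdeal (k := AlgebraicClosure k) hy hL
  rw [euler_eq_of_iso θ] at hI1
  have hdL : Curv2.deg (AlgebraicClosure k) (CurveOmega.bar k P) L 1 = 1 := by
    rw [Curv2.deg]
    push_cast
    linarith
  have hP0b := (CurveOmega.h_bar_structure k P 0).trans hP00
  have hhL : 2 ≤ CurveRR.h (AlgebraicClosure k) L 0 := by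
    rw [Curv2.deg, euler_eq hPb.2.2.2.le, euler_structure hPb.2.2.2.le hP0b, CurveOmega.genus_bar, Curv2.genus,
      show Module.finrank k (Coh.HH P (Coh.structureModule P) 1) = 0 from hP01] at hdL
    push_cast at hdL
    omega
  -- the pencil
  have hdN : Curv2.deg (AlgebraicClosure k) (CurveOmega.bar k C) ((Scheme.Modules.pullback g).obj L) 1 = 2 := by
    rw [deg_pullback_flat g hg2 hng hPb.2.2.2.le hL, hdL]
    norm_num
  haveI : IsProper (CurveOmega.bar k C ↘ Spec (CommRingCat.of (AlgebraicClosure k))) := hCb.1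
  have h2 := hhL.trans (Nakai.h0_le_pullback (k := AlgebraicClosure k) g hg2 hL)
  have h3 := h0_le_one_bar G hG hinst hd (PicLoc.isInvertible_pullback g hL) hdN
  omega

end Groth.Agent.PlaneGon
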