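import Groth.Agent.CurveOmega.Canonical
import Groth.Agent.PicCurve.PointSum

/-!
A very ample module of degree at least four with three sections leaves no room for pencils of degree two.
-/

set_option autoImplicit false
set_option backward.isDefEq.respectTransparency false
set_option linter.style.haveILetI false
set_option maxHeartbeats 1000000

universe u

open CategoryTheory CategoryTheory.Limits AlgebraicGeometry TopologicalSpace Opposite
open Groth.Agent.CohFinite Groth.Agent.CurveRR Groth.Agent.CurveOmega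
open Groth.Agent.QC (res res_self)
open Groth.Agent.WeakAssLib (mgerm mgerm_res)
open TMul (IsGen homOf val_homOf tm)

attribute [local instance] Groth.Agent.W7Cube.law

noncomputable section

namespace Groth.Agent.PlaneGon

theorem eq_zero_of_res {X : Scheme.{u}} [IsIntegral X] {L : X.Modules} (hL : PicF.IsInvertible L) {U : X.Opens}
    (hU : genericPoint X ∈ U) (a : Γ(L, ⊤)) (h : res L (le_top : U ≤ ⊤) a = 0) : a = 0 := by
  refine eq_zero_of_germ_generic hL a trivial ?_
  rw [← mgerm_res L (le_top : U ≤ ⊤) hU a, h, map_zero]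

/-- Products of nonzero sections of invertible modules are nonzero. -/
theorem tm_ne_zero {X : Scheme.{u}} [IsIntegral X] {L L' : X.Modules} (hL : PicF.IsInvertible L)
    (hL' : PicF.IsInvertible L') (a : Γ(L, ⊤)) (t : Γ(L', ⊤)) (ha : a ≠ 0) (ht : t ≠ 0) : tm a t ≠ 0 := fun h => by
  obtain ⟨D, g, hηD, hg⟩ := TMul.exists_isGen hL (genericPoint X)
  obtain ⟨D', g', hηD', hg'⟩ := TMul.exists_isGen hL' (genericPoint X)
  let U := D ⊓ D'
  have hηU : genericPoint X ∈ U := ⟨hηD, hηD'⟩
  haveI : Nonempty U := ⟨⟨_, hηU⟩⟩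
  haveI : IsDomain Γ(X, U) := IsIntegral.component_integral U
  obtain ⟨c, hc⟩ := (hg U inf_le_left).2 (res L (le_top : U ≤ ⊤) a)
  obtain ⟨d, hd⟩ := (hg' U inf_le_right).2 (res L' (le_top : U ≤ ⊤) t)
  have he := TMul.isGen_tm (hg.res (inf_le_left : U ≤ D)) (hg'.res (inf_le_right : U ≤ D'))
  have h1 : (d * c) • tm (res L (inf_le_left : U ≤ D) g) (res L' (inf_le_right : U ≤ D') g') = 0 := by
    rw [mul_smul, ← TMul.smul_tm, ← TMul.tm_smul,
      show c • res L (inf_le_left : U ≤ D) g = res L (le_top : U ≤ ⊤) a from hc,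
      show d • res L' (inf_le_right : U ≤ D') g' = res L' (le_top : U ≤ ⊤) t from hd, ← TMul.res_tm, h, map_zero]
  have h2 : d * c = 0 := (he U le_rfl).1 (by
    show (d * c) • res _ le_rfl _ = (0 : Γ(X, U)) • res _ le_rfl _
    rw [res_self, h1, zero_smul])
  rcases mul_eq_zero.1 h2 with h0 | h0
  · refine ht (eq_zero_of_res hL' hηU t (hd.symm.trans ?_))
    show d • _ = _
    rw [h0, zero_smul]
  · refine ha (eq_zero_of_res hL hηU a (hc.symm.trans ?_))
    show c • _ = _
    rw [h0, zero_smul]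

variable {k : Type u} [Field k] {X : Scheme.{u}} [X.Over (Spec (CommRingCat.of k))] [IsIntegral X]
  [IsProper (X ↘ Spec (CommRingCat.of k))]

attribute [local instance] secMod

/-- Multiplying by a nonzero section does not lose sections. -/
theorem h0_le_tensor {L L' : X.Modules} (hL : PicF.IsInvertible L) (hL' : PicF.IsInvertible L')
    (h : h k L' 0 ≠ 0) : CurveRR.h k L 0 ≤ CurveRR.h k (CohB1.tensorMod L L') 0 := by
  haveI := isNoetherian_of_proper k X
  obtain ⟨s, hs⟩ := exists_section (k := k) (L := L') h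
  have ht : TMul.val s ⊤ ≠ 0 := fun h0 => hs (TMul.hom_ext_val (h0.trans (by
    show (0 : Γ(L', ⊤)) = (0 : Coh.structureModule X ⟶ L').app ⊤ (1 : Γ(X, ⊤))
    rfl)))
  let R : Γ(L, ⊤) →ₗ[k] Γ(CohB1.tensorMod L L', ⊤) :=
    { toFun := fun a => tm a (TMul.val s ⊤)
      map_add' := fun a b => TMul.tm_add _ _ _
      map_smul' := fun c a => TMul.smul_tm _ _ _ }
  have hR : Function.Injective R := by
    rw [injective_iff_map_eq_zero]
    exact fun a ha => by_contra fun hne => tm_ne_zero hL hL' a _ hne ht ha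
  haveI := finite_proper k X _ (isCoh_of_inv (TMul.isInvertible_tensorMod hL hL')) 0
  haveI : Module.Finite k Γ(CohB1.tensorMod L L', ⊤) :=
    Module.Finite.equiv (secH0 (k := k) (CohB1.tensorMod L L')).symm
  rw [← finrank_sec, ← finrank_sec]
  exact LinearMap.finrank_le_finrank_of_injective (f := R) hR

variable [IsAlgClosed k] [Smooth (X ↘ Spec (CommRingCat.of k))] (hdim : topologicalKrullDim X = 1)

include hdim in
/-- **No pencil of degree two.** -/
theorem h0_le_one_of_sep {M : X.Modules} (hM : PicF.IsInvertible M) (hsep : Sep k X M)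
    (hd : 4 ≤ Curv2.deg k X M 1) (h3 : h k M 0 = 3) {N : X.Modules} (hN : PicF.IsInvertible N)
    (hdN : Curv2.deg k X N 1 = 2) : h k N 0 ≤ 1 := by
  haveI := isNoetherian_of_proper k X
  let J : ∀ {R : X}, IsClosed ({R} : Set X) → X.Modules := fun {R} hR =>
    ClSub.idealMod (Scheme.IdealSheafData.vanishingIdeal ⟨{R}, hR⟩)
  have hIinv : ∀ {R : X} (hR : IsClosed ({R} : Set X)), PicF.IsInvertible (J hR) := fun {R} hR =>
    isInvertible_pointIdeal hdim.le hR (genericPoint_ne_of_closed (k := k) hdim hR)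
      (SmLocalST.isRegularLocalRing_stalk_of_smooth_field (X ↘ Spec (CommRingCat.of k)) _)
  have hpt : ∀ {R : X} (hR : IsClosed ({R} : Set X)) {L : X.Modules}, PicF.IsInvertible L →
      Curv2.deg k X (CohB1.tensorMod (J hR) L) 1 = Curv2.deg k X L 1 - 1 := fun {R} hR {L} hL => by
    rw [Curv2.deg, euler_pointIdeal (k := k) hR hL, Curv2.deg]
    ring
  by_contra! h2
  obtain ⟨s, hs⟩ := exists_section (k := k) (L := N) (by omega)
  obtain ⟨P, hP, u, hu⟩ := exists_vanish (k := k) hdim hN s hs (by omega)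
  have hPN := TMul.isInvertible_tensorMod (hIinv hP) hN
  obtain ⟨Q, hQ, w, hw⟩ := exists_vanish (k := k) hdim hPN u hu (by have := hpt hP hN; omega)
  have hQPN := TMul.isInvertible_tensorMod (hIinv hQ) hPN
  obtain ⟨-, hiso⟩ := deg_le_and_isIso (k := k) hdim.le TMul.isInvertible_structureModule hQPN w hw
  haveI := hiso (by rw [deg_structure, hpt hQ hPN, hpt hP hN, hdN]; ring)
  -- the residual module
  have hT := TMul.isInvertible_tensorMod (hIinv hP) (hIinv hQ)
  have hF := TMul.isInvertible_tensorMod hM hT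
  have hF0 := hsep P Q hP hQ
  rw [h3] at hF0
  change h k (CohB1.tensorMod M (CohB1.tensorMod (J hP) (J hQ))) 0 + 2 = 3 at hF0
  have hdF : Curv2.deg k X (CohB1.tensorMod M (CohB1.tensorMod (J hP) (J hQ))) 1 = Curv2.deg k X M 1 - 2 := by
    rw [deg_tensor_inv (k := k) hdim.le hM hT, deg_tensor_inv (k := k) hdim.le (hIinv hP) (hIinv hQ)]
    have hI1 : ∀ {R : X} (hR : IsClosed ({R} : Set X)), Curv2.deg k X (J hR) 1 = -1 := fun {R} hR => by
      have h1 := hpt hR (TMul.isInvertible_structureModule (X := X))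
      rw [deg_tensor_inv (k := k) hdim.le (hIinv hR) TMul.isInvertible_structureModule, deg_structure] at h1
      omega
    rw [hI1 hP, hI1 hQ]
    ring
  obtain ⟨t, ht⟩ := exists_section (k := k) (L := CohB1.tensorMod M (CohB1.tensorMod (J hP) (J hQ))) (by
    show h k _ 0 ≠ 0
    omega)
  obtain ⟨R, hR, t₁, ht₁⟩ := exists_vanish (k := k) hdim hF t ht (by omega)
  have hRF := TMul.isInvertible_tensorMod (hIinv hR) hF
  obtain ⟨S, hS, t₂, ht₂⟩ := exists_vanish (k := k) hdim hRF t₁ ht₁ (by have := hpt hR hF; omega)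
  have hSRF := TMul.isInvertible_tensorMod (hIinv hS) hRF
  have hne : h k (CohB1.tensorMod (J hS) (CohB1.tensorMod (J hR) (CohB1.tensorMod M (CohB1.tensorMod (J hP) (J hQ))))) 0 ≠ 0 := by
    intro h0
    have := h0_le_of_hom (k := k) TMul.isInvertible_structureModule hSRF t₂ ht₂
    rw [h0, Nat.le_zero] at this
    have h00 := h0_structure k X
    rw [this] at h00
    exact zero_ne_one h00
  have hle := h0_le_tensor (k := k) hN hSRF hne
  -- compare classes
  have hT' := TMul.isInvertible_tensorMod hM (TMul.isInvertible_tensorMod (hIinv hR) (hIinv hS))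
  have e1 : PicGrp.cls _ hQPN = 1 := (PicGrp.cls_eq_one_iff hQPN).2 ⟨(asIso w).symm⟩
  have e2 : PicGrp.cls _ (TMul.isInvertible_tensorMod hN hSRF) = PicGrp.cls _ hT' := by
    change PicGrp.cls N hN * (PicGrp.cls _ (hIinv hS) * (PicGrp.cls _ (hIinv hR) *
      (PicGrp.cls M hM * (PicGrp.cls _ (hIinv hP) * PicGrp.cls _ (hIinv hQ))))) =
      PicGrp.cls M hM * (PicGrp.cls _ (hIinv hR) * PicGrp.cls _ (hIinv hS))
    change PicGrp.cls _ (hIinv hQ) * (PicGrp.cls _ (hIinv hP) * PicGrp.cls N hN) = 1 at e1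
    generalize PicGrp.cls N hN = n at e1 ⊢
    generalize PicGrp.cls M hM = m at e1 ⊢
    generalize PicGrp.cls _ (hIinv hP) = p at e1 ⊢
    generalize PicGrp.cls _ (hIinv hQ) = q at e1 ⊢
    generalize PicGrp.cls _ (hIinv hR) = r at e1 ⊢
    generalize PicGrp.cls _ (hIinv hS) = v at e1 ⊢
    calc n * (v * (r * (m * (p * q)))) = (q * (p * n)) * (m * (r * v)) := by ac_rfl
      _ = m * (r * v) := by rw [e1, one_mul]
  obtain ⟨e⟩ := (PicGrp.cls_eq_cls_iff _ _).1 e2
  rw [h_eq_of_iso e 0] at hle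
  have hRS := hsep R S hR hS
  rw [h3] at hRS
  change h k (CohB1.tensorMod M (CohB1.tensorMod (J hR) (J hS))) 0 + 2 = 3 at hRS
  omega

end Groth.Agent.PlaneGon
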