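import Groth.Agent.PlaneGon.NoPencil
import Groth.Agent.CurveOmega.BarCrit
import Groth.Agent.GenusOneTwist.Chart
import Groth.Agent.PlaneCurve.Hyp
import Groth.Agent.SerrePn.ClosedTwist
import Groth.Agent.S7840
import Groth.Agent.S0458

/-!
A smooth plane curve of degree at least four has no pencil of degree two, over the algebraic closure either.
-/

set_option autoImplicit false
set_option linter.style.haveILetI false
set_option linter.unusedSectionVars false
set_option backward.isDefEq.respectTransparency false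
set_option backward.isDefEq.respectTransparency.types false
set_option maxHeartbeats 1000000

universe u

open CategoryTheory CategoryTheory.Limits AlgebraicGeometry TopologicalSpace
open Groth.Agent.CohFinite Groth.Agent.CurveRR

noncomputable section

namespace Groth.Agent.PlaneGon

variable {k : Type u} [Field k] {d : ℕ} (G : LefPen.Form 2 k d) (hG : G ≠ 0)
  [inst : ((LefPen.hypIdeal G).subscheme).Over (Spec (CommRingCat.of k))]
  (hinst : (LefPen.hypIdeal G).subscheme ↘ (Spec (CommRingCat.of k)) =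
    (LefPen.hypIdeal G).subschemeι ≫ CohB1.ProjSpace.toSpec 2 k)

include hinst in
theorem isProper_plane : IsProper ((LefPen.hypIdeal G).subscheme ↘ Spec (CommRingCat.of k)) := by
  rw [hinst]
  haveI := ProjMor.isProper_toSpec (n := 2) (R := k)
  infer_instance

include hG hinst in
theorem isIntegral_plane [Smooth ((LefPen.hypIdeal G).subscheme ↘ (Spec (CommRingCat.of k)))] (hd : 1 ≤ d) :
    IsIntegral (LefPen.hypIdeal G).subscheme := by
  haveI := isProper_plane G hinst
  haveI := isNoetherian_of_proper k (LefPen.hypIdeal G).subscheme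
  haveI := (Groth.Agent.S7840.result k d hd G hG hinst).2.1
  haveI : IsReduced (LefPen.hypIdeal G).subscheme := Groth.Agent.SmoothRed.isReduced_of_smooth_scheme
    ((LefPen.hypIdeal G).subscheme ↘ Spec (CommRingCat.of k))
  have hdom : ∀ x : (LefPen.hypIdeal G).subscheme, IsDomain ((LefPen.hypIdeal G).subscheme.presheaf.stalk x) :=
    fun x => by
    haveI := SmLocalST.isRegularLocalRing_stalk_of_smooth_field
      ((LefPen.hypIdeal G).subscheme ↘ Spec (CommRingCat.of k)) x
    exact Groth.Agent.S0558.result _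
  haveI := CurveRR.Easy.irreducibleSpace_of_domain_stalks hdom
  exact isIntegral_of_irreducibleSpace_of_isReduced _

include hG hinst in
theorem dim_plane (hd : 3 ≤ d) : topologicalKrullDim (LefPen.hypIdeal G).subscheme = 1 := by
  haveI := isProper_plane G hinst
  refine le_antisymm (GenusOneTwist.topologicalKrullDim_le_one G hG) (not_lt.1 fun hlt => ?_)
  have h0 : topologicalKrullDim (LefPen.hypIdeal G).subscheme ≤ ((0 : ℕ) : WithBot ℕ∞) := by
    revert hlt
    generalize topologicalKrullDim (LefPen.hypIdeal G).subscheme = D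
    intro hlt
    cases D with
    | bot => exact bot_le
    | coe D =>
      have : D < 1 := by exact_mod_cast hlt
      exact_mod_cast (ENat.lt_one_iff_eq_zero.1 this).le
  haveI := CurveRR.isNoetherian_of_proper k (LefPen.hypIdeal G).subscheme
  haveI : Subsingleton (Coh.HH (LefPen.hypIdeal G).subscheme (Coh.structureModule _) 1) :=
    Groth.Agent.S0458.result (X := (LefPen.hypIdeal G).subscheme.toPresheafedSpace.carrier) 0 h0 (Coh.toAb _) 1
      (by omega)
  have h1 := (Groth.Agent.S7840.result k d (by omega) G hG hinst).2.2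
  rw [Module.finrank_zero_of_subsingleton] at h1
  obtain ⟨a, rfl⟩ := Nat.exists_eq_add_of_le hd
  rw [show 3 + a - 1 = a + 2 by omega, show 3 + a - 2 = a + 1 by omega] at h1
  have : 2 ≤ (a + 2) * (a + 1) := by nlinarith
  omega

/-- The hyperplane class. -/
abbrev hyper : (LefPen.hypIdeal G).subscheme.Modules :=
  (Scheme.Modules.pullback (LefPen.hypIdeal G).subschemeι).obj (Twist.twistProjSpace 2 k 1)

theorem isInvertible_hyper : PicF.IsInvertible (hyper G) :=
  PicLoc.isInvertible_pullback _ (GrT.isInvertible_twist_of_gens (PlaneCurve.hasFracGens _))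

include hG hinst in
theorem hyper_h0 (hd : 4 ≤ d) : h k (hyper G) 0 = 3 ∧ h k (hyper G) 1 = (d - 2).choose 2 := by
  classical
  let X := CohB1.ProjSpace 2 k
  let I := LefPen.hypIdeal G
  haveI : IsProper (X ↘ Spec (CommRingCat.of k)) := ProjMor.isProper_toSpec (n := 2) (R := k)
  have hL : PicF.IsInvertible (Twist.twistProjSpace 2 k 1) :=
    GrT.isInvertible_twist_of_gens (PlaneCurve.hasFracGens _)
  obtain ⟨t⟩ := PlaneCurve.nonempty_ideal_iso_twist G hG
  obtain ⟨t'⟩ := GrT.nonempty_twist_tensor_iso (CohB1.polyGrading 2 k) (a := -(d : ℤ)) (b := 1) (c := 1 - d)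
    (PlaneCurve.hasFracGens _) (by ring)
  let eI : CohB1.tensorMod (ClSub.idealMod I) (Twist.twistProjSpace 2 k 1) ≅ Twist.twistProjSpace 2 k (1 - d) :=
    PicGrp.tensorModIso t (Iso.refl _) ≪≫ TMul.commIso _ _ ≪≫ t'
  obtain ⟨eQ₀⟩ := SerrePn.nonempty_pushTwist I.subschemeι (Coh.structureModule I.subscheme) hL
  let eQ : CohB1.tensorMod (ClSub.quotMod I) (Twist.twistProjSpace 2 k 1) ≅
      (Scheme.Modules.pushforward I.subschemeι).obj (hyper G) :=
    eQ₀ ≪≫ (Scheme.Modules.pushforward I.subschemeι).mapIso (TMul.leftUnitIso _)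
  have hS := shortExact_tmap hL (CurveRR.ideal_shortExact I)
  have hdim : ∀ m : ℕ, Module.finrank k ↥(MvPolynomial.homogeneousSubmodule (Fin (2 + 1)) k m) = (2 + m).choose m :=
    fun m => by
      rw [(PlaneForms.finite_homogeneous_and_finrank (σ := Fin (2 + 1)) m).2, Fintype.card_fin,
        show 2 + 1 + m - 1 = 2 + m by omega]
  have vI : ∀ q, q ≠ 2 → Subsingleton (Coh.HH X (CohB1.tensorMod (ClSub.idealMod I) (Twist.twistProjSpace 2 k 1)) q) :=
    fun q hq =>
    haveI := ProjCech.twist_vanish (R := k) 2 (1 - (d : ℤ)) q (by omega) (by omega)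
    (CohFinite.hhEquiv k eI q).toEquiv.subsingleton
  let eO : CohB1.tensorMod (Coh.structureModule X) (Twist.twistProjSpace 2 k 1) ≅ Twist.twistProjSpace 2 k ((1 : ℕ) : ℤ) :=
    TMul.leftUnitIso _
  have vO : ∀ q, q ≠ 0 → Subsingleton (Coh.HH X (CohB1.tensorMod (Coh.structureModule X) (Twist.twistProjSpace 2 k 1)) q) :=
    fun q hq =>
    haveI := ProjCech.twist_vanish (R := k) 2 ((1 : ℕ) : ℤ) q (by omega) (by omega)
    (CohFinite.hhEquiv k eO q).toEquiv.subsingleton
  have hO : Module.finrank k (Coh.HH X (CohB1.tensorMod (Coh.structureModule X) (Twist.twistProjSpace 2 k 1)) 0) = 3 := by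
    obtain ⟨e⟩ := ProjCech.zero_equiv (R := k) 2 1
    exact (LinearEquiv.finrank_eq (CohFinite.hhEquiv k eO 0)).trans (e.finrank_eq.trans (hdim 1))
  have hI : Module.finrank k (Coh.HH X (CohB1.tensorMod (ClSub.idealMod I) (Twist.twistProjSpace 2 k 1)) 2) =
      (d - 2).choose 2 := by
    rw [LinearEquiv.finrank_eq (CohFinite.hhEquiv k eI 2)]
    obtain ⟨a, rfl⟩ := Nat.exists_eq_add_of_le hd
    obtain ⟨e⟩ := ProjCech.top_equiv (R := k) 2 a
    rw [show (1 - ((4 + a : ℕ) : ℤ)) = -((2 : ℕ) + 1 + (a : ℤ)) by push_cast; ring, e.finrank_eq, hdim,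
      ← Nat.choose_symm_add, show 4 + a - 2 = 2 + a by omega]
  haveI := isProper_plane G hinst
  have hQ : ∀ q, Nonempty (Coh.HH I.subscheme (hyper G) q ≃ₗ[k]
      Coh.HH X (CohB1.tensorMod (ClSub.quotMod I) (Twist.twistProjSpace 2 k 1)) q) := fun q => by
    haveI := QC.isQCoh_pullback I.subschemeι (TMul.isQCoh_of_isInvertible hL)
    obtain ⟨e⟩ := CohFinite.hh_push_linear k I.subschemeι hinst.symm (hyper G)
      (CohQC.directAcyclic_of_isAffineHom I.subschemeι _) q
    exact ⟨e.trans (CohFinite.hhEquiv k eQ q).symm⟩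
  have rb : ∀ {M N : Type u} [AddCommGroup M] [AddCommGroup N] [Module k M] [Module k N] (f : M →ₗ[k] N),
      Subsingleton M → LinearMap.range f = ⊥ := fun f hM => LinearMap.range_eq_bot.2
    (LinearMap.ext fun x => by rw [Subsingleton.elim x 0, map_zero, map_zero])
  have kt : ∀ {M N : Type u} [AddCommGroup M] [AddCommGroup N] [Module k M] [Module k N] (f : M →ₗ[k] N),
      Subsingleton N → LinearMap.ker f = ⊤ := fun f hN => LinearMap.ker_eq_top.2
    (LinearMap.ext fun x => Subsingleton.elim _ _)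
  obtain ⟨e0⟩ := hQ 0
  obtain ⟨e1⟩ := hQ 1
  constructor
  · let g := CohFinite.hhMap k (tmap (ClSub.toSubscheme I) (Twist.twistProjSpace 2 k 1)) 0
    have hinj : Function.Injective g := by
      rw [← LinearMap.ker_eq_bot, ← CurveRR.range_f_eq_ker_g hS 0]
      exact rb _ (vI 0 (by omega))
    have hsur : Function.Surjective g := by
      rw [← LinearMap.range_eq_top, CurveRR.range_g_eq_ker_δ hS 0]
      exact kt _ (vI 1 (by omega))
    rw [CurveRR.h, e0.finrank_eq, ← (LinearEquiv.ofBijective g ⟨hinj, hsur⟩).finrank_eq]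
    exact hO
  · let δ := CohFinite.hhδ k hS 1
    have hinj : Function.Injective δ := by
      rw [← LinearMap.ker_eq_bot, ← CurveRR.range_g_eq_ker_δ hS 1]
      exact rb _ (vO 1 (by omega))
    have hsur : Function.Surjective δ := by
      rw [← LinearMap.range_eq_top, CurveRR.range_δ_eq_ker_f hS 1]
      exact kt _ (vO 2 (by omega))
    rw [CurveRR.h, e1.finrank_eq, (LinearEquiv.ofBijective δ ⟨hinj, hsur⟩).finrank_eq]
    exact hI

include hG hinst in
/-- **No pencil of degree two over the algebraic closure.** -/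
theorem h0_le_one_bar [Smooth ((LefPen.hypIdeal G).subscheme ↘ (Spec (CommRingCat.of k)))] (hd : 4 ≤ d)
    {N : (CurveOmega.bar k (LefPen.hypIdeal G).subscheme).Modules} (hN : PicF.IsInvertible N)
    (hdN : Curv2.deg (AlgebraicClosure k) (CurveOmega.bar k (LefPen.hypIdeal G).subscheme) N 1 = 2) :
    h (AlgebraicClosure k) N 0 ≤ 1 := by
  haveI := isProper_plane G hinst
  haveI := isIntegral_plane G hG hinst (by omega)
  have hdim := dim_plane G hG hinst (by omega)
  have h00 := (Groth.Agent.S7840.result k d (by omega) G hG hinst).1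
  have hg := (Groth.Agent.S7840.result k d (by omega) G hG hinst).2.2
  have hC := CurveOmega.smoothProper_bar k _ hdim h00
  haveI := hC.1
  haveI := hC.2.1
  haveI := hC.2.2.1
  have hsep := CurveOmega.sep_bar_of_veryAmple (k := k) hdim h00 (isInvertible_hyper G)
    (LefPen.hypIdeal G).subschemeι hinst.symm (Iso.refl _)
  obtain ⟨hM0, hM1⟩ := hyper_h0 G hG hinst hd
  have hq := (isCoh_of_inv (isInvertible_hyper G)).1
  refine h0_le_one_of_sep (k := AlgebraicClosure k) hC.2.2.2 (PicLoc.isInvertible_pullback _ (isInvertible_hyper G))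
    hsep ?_ ((CurveOmega.h_bar k _ hq 0).trans hM0) hN hdN
  rw [Curv2.deg, euler_eq hC.2.2.2.le, euler_structure hC.2.2.2.le ((CurveOmega.h_bar_structure k _ 0).trans h00),
    CurveOmega.genus_bar, CurveOmega.h_bar k _ hq, CurveOmega.h_bar k _ hq, hM0, hM1, Curv2.genus, hg]
  obtain ⟨a, rfl⟩ := Nat.exists_eq_add_of_le hd
  have h2 := Nat.choose_two_right (4 + a - 2)
  rw [show 4 + a - 2 - 1 = a + 1 by omega, show 4 + a - 2 = a + 2 by omega] at h2
  rw [show 4 + a - 1 = a + 3 by omega, show 4 + a - 2 = a + 2 by omega, h2]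
  have e1 : (a + 3) * (a + 2) = (a + 2) * (a + 1) + 2 * (a + 2) := by ring
  rw [e1, Nat.add_mul_div_left _ _ (by norm_num : 0 < 2)]
  push_cast
  omega

end Groth.Agent.PlaneGon
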